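import Groth.Agent.Lib.HilbObs3.Chart
import Groth.Agent.Lib.ArtFun24.Diff
import Groth.Agent.Lib.ArtFun.Basic

/-!
# Functions on `X × Spec k[ε]` over charts: the infinitesimal part
-/

set_option autoImplicit false
set_option linter.style.haveILetI false
set_option backward.isDefEq.respectTransparency.types false

universe u

open CategoryTheory CategoryTheory.Limits AlgebraicGeometry IsLocalRing

namespace Groth.Agent.HomTan3

open ArtFun ArtFun.Art HilbRS3 HilbObs3

variable {k : Type u} [Field k] {X : Scheme.{u}} (x : X ⟶ Art.specPt k)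

/-- `ε`. -/
noncomputable abbrev eps (k : Type u) [Field k] : (dual k k : Art k k).carrier := (TrivSqZeroExt.inr 1 : DualNumber k)

theorem res_eq_zero {b : (dual k k : Art k k).carrier} (hb : (dual k k : Art k k).res b = 0) :
    b = algebraMap k _ (TrivSqZeroExt.snd (b : DualNumber k)) * eps k := by
  refine TrivSqZeroExt.ext ?_ ?_
  · show TrivSqZeroExt.fst (b : DualNumber k) = TrivSqZeroExt.snd (b : DualNumber k) * 0
    rw [mul_zero]; exact hb
  · show TrivSqZeroExt.snd (b : DualNumber k) = TrivSqZeroExt.snd (b : DualNumber k) * 1 + 0 * 0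
    simp

theorem eps_sq : eps k * eps k = 0 := TrivSqZeroExt.inr_mul_inr k (1 : k) 1

theorem res_eps : (dual k k : Art k k).res (eps k) = 0 := TrivSqZeroExt.fst_inr k (1 : k)

variable (U : X.affineOpens)

theorem cι₀_σε : cι₀ x (dual k k) U (cσ x (dual k k) U (eps k)) = 0 := by
  rw [cι₀_cσ, res_eps, map_zero]

theorem σε_mul_eq_zero {y : Γ(XA x (dual k k), (chart x (dual k k) U).1)}
    (hy : cι₀ x (dual k k) U y = 0) : cσ x (dual k k) U (eps k) * y = 0 := by
  have h := Ideal.mul_mem_left ((maximalIdeal (dual k k : Art k k)).map (cσ x (dual k k) U)) (cσ x (dual k k) U (eps k))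
    (show y ∈ _ from (ker_cι₀ x (dual k k) U).le (RingHom.mem_ker.2 hy))
  clear h
  have hy' := (ker_cι₀ x (dual k k) U).le (RingHom.mem_ker.2 hy)
  refine Submodule.span_induction (p := fun y _ => cσ x (dual k k) U (eps k) * y = 0) ?_ (mul_zero _) ?_ ?_ hy'
  · rintro _ ⟨b, hb, rfl⟩
    rw [res_eq_zero ((Art.mem_maximalIdeal_iff _ b).1 hb), map_mul, mul_left_comm, ← map_mul (cσ x (dual k k) U) (eps k),
      eps_sq, map_zero, mul_zero]
  · intro a b _ _ ha hb
    rw [mul_add, ha, hb, add_zero]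
  · intro c a _ ha
    rw [smul_eq_mul, mul_left_comm, ha, mul_zero]

theorem eq_zero_of_σε_mul {r : Γ(X, U.1)} (h : cσ x (dual k k) U (eps k) * cι x (dual k k) U r = 0) : r = 0 := by
  have hflat := flat_cσ x (dual k k) U
  algebraize [cσ x (dual k k) U]
  have h1 : (cι x (dual k k) U r) ∈ maximalIdeal (dual k k : Art k k) •
      (⊤ : Submodule (dual k k : Art k k) Γ(XA x (dual k k), (chart x (dual k k) U).1)) := by
    refine ThickAff3.mem_colon_smul_top_of_flat ⊥ _ (eps k) (fun b hb => ?_) ?_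
    · rw [Ideal.mem_bot] at hb
      rw [Art.mem_maximalIdeal_iff]
      have h' : (DualNumber.eps : DualNumber k) * (show DualNumber k from b) = 0 := hb
      have := congrArg TrivSqZeroExt.snd h'
      rw [DualNumber.snd_mul, DualNumber.fst_eps, DualNumber.snd_eps, zero_mul, zero_add, one_mul,
        TrivSqZeroExt.snd_zero] at this
      exact this
    · rw [Submodule.bot_smul, Submodule.mem_bot, Algebra.smul_def]
      exact h
  rw [Ideal.smul_top_eq_map] at h1
  have h2 : cι x (dual k k) U r ∈ RingHom.ker (cι₀ x (dual k k) U) := (ker_cι₀ x (dual k k) U).ge h1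
  rwa [RingHom.mem_ker, cι₀_cι] at h2

theorem exists_ddS (z : Γ(XA x (dual k k), (chart x (dual k k) U).1)) :
    ∃ r, z = cι x (dual k k) U (cι₀ x (dual k k) U z) + cσ x (dual k k) U (eps k) * cι x (dual k k) U r := by
  suffices H : ∀ y ∈ (maximalIdeal (dual k k : Art k k)).map (cσ x (dual k k) U),
      ∃ r, y = cσ x (dual k k) U (eps k) * cι x (dual k k) U r by
    obtain ⟨r, hr⟩ := H (z - cι x (dual k k) U (cι₀ x (dual k k) U z)) (by
      rw [← ker_cι₀, RingHom.mem_ker, map_sub, cι₀_cι, sub_self])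
    exact ⟨r, by rw [← hr, add_sub_cancel]⟩
  intro y hy
  refine Submodule.span_induction (p := fun y _ => ∃ r, y = cσ x (dual k k) U (eps k) * cι x (dual k k) U r) ?_
    ⟨0, by rw [map_zero, mul_zero]⟩ ?_ ?_ hy
  · rintro _ ⟨b, hb, rfl⟩
    refine ⟨ThickAff3.str x U.1 (TrivSqZeroExt.snd (b : DualNumber k)), ?_⟩
    conv_lhs => rw [res_eq_zero ((Art.mem_maximalIdeal_iff _ b).1 hb), map_mul]
    rw [cι_str, mul_comm]
  · rintro a b _ _ ⟨r, rfl⟩ ⟨s, rfl⟩
    exact ⟨r + s, by rw [map_add, mul_add]⟩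
  · rintro c _ _ ⟨r, rfl⟩
    refine ⟨cι₀ x (dual k k) U c * r, ?_⟩
    rw [smul_eq_mul, map_mul, ← sub_eq_zero]
    have h := σε_mul_eq_zero x U (y := (c - cι x (dual k k) U (cι₀ x (dual k k) U c)) * cι x (dual k k) U r) (by
      rw [map_mul, map_sub, cι₀_cι, sub_self, zero_mul])
    linear_combination h

theorem ddS_unique {r r' : Γ(X, U.1)} (h : cσ x (dual k k) U (eps k) * cι x (dual k k) U r =
    cσ x (dual k k) U (eps k) * cι x (dual k k) U r') : r = r' :=
  sub_eq_zero.1 (eq_zero_of_σε_mul x U (by rw [map_sub, mul_sub, h, sub_self]))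

theorem eq_of_decomp {z : Γ(XA x (dual k k), (chart x (dual k k) U).1)} {a r a' r' : Γ(X, U.1)}
    (h : z = cι x (dual k k) U a + cσ x (dual k k) U (eps k) * cι x (dual k k) U r)
    (h' : z = cι x (dual k k) U a' + cσ x (dual k k) U (eps k) * cι x (dual k k) U r') : r = r' := by
  have ha : ∀ {a r : Γ(X, U.1)}, z = cι x (dual k k) U a + cσ x (dual k k) U (eps k) * cι x (dual k k) U r →
      cι₀ x (dual k k) U z = a := fun {a r} h => by
    rw [h, map_add, map_mul, cι₀_cι, cι₀_σε, zero_mul, add_zero]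
  refine ddS_unique x U ?_
  rw [← ha h] at h
  rw [← ha h'] at h'
  linear_combination h' - h

/-- The infinitesimal part. -/
noncomputable def ddS : Γ(XA x (dual k k), (chart x (dual k k) U).1) →+ Γ(X, U.1) :=
  AddMonoidHom.mk' (fun z => (exists_ddS x U z).choose) fun z w =>
    eq_of_decomp x U (exists_ddS x U (z + w)).choose_spec (a' := cι₀ x (dual k k) U z + cι₀ x (dual k k) U w) (by
      rw [map_add, map_add]
      linear_combination (exists_ddS x U z).choose_spec + (exists_ddS x U w).choose_spec)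

theorem ddS_spec (z : Γ(XA x (dual k k), (chart x (dual k k) U).1)) :
    z = cι x (dual k k) U (cι₀ x (dual k k) U z) + cσ x (dual k k) U (eps k) * cι x (dual k k) U (ddS x U z) :=
  (exists_ddS x U z).choose_spec

theorem ddS_eq {z : Γ(XA x (dual k k), (chart x (dual k k) U).1)} {a r : Γ(X, U.1)}
    (h : z = cι x (dual k k) U a + cσ x (dual k k) U (eps k) * cι x (dual k k) U r) : ddS x U z = r :=
  eq_of_decomp x U (ddS_spec x U z) h

theorem ddS_mul (z w : Γ(XA x (dual k k), (chart x (dual k k) U).1)) :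
    ddS x U (z * w) = cι₀ x (dual k k) U z * ddS x U w + cι₀ x (dual k k) U w * ddS x U z := by
  refine ddS_eq x U (a := cι₀ x (dual k k) U z * cι₀ x (dual k k) U w) ?_
  conv_lhs => rw [ddS_spec x U z, ddS_spec x U w]
  rw [map_mul, map_add, map_mul, map_mul]
  have h0 : cσ x (dual k k) U (eps k) * cσ x (dual k k) U (eps k) = 0 := by rw [← map_mul, eps_sq, map_zero]
  linear_combination (cι x (dual k k) U (ddS x U z) * cι x (dual k k) U (ddS x U w)) * h0

theorem ddS_cι (r : Γ(X, U.1)) : ddS x U (cι x (dual k k) U r) = 0 :=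
  ddS_eq x U (a := r) (by rw [map_zero, mul_zero, add_zero])

theorem ddS_cσ_mul_cι (b : (dual k k : Art k k).carrier) (r : Γ(X, U.1)) :
    ddS x U (cσ x (dual k k) U b * cι x (dual k k) U r) =
      ThickAff3.str x U.1 (TrivSqZeroExt.snd (b : DualNumber k)) * r := by
  refine ddS_eq x U (a := ThickAff3.str x U.1 (TrivSqZeroExt.fst (b : DualNumber k)) * r) ?_
  have e : b = algebraMap k _ (TrivSqZeroExt.fst (b : DualNumber k)) +
      algebraMap k _ (TrivSqZeroExt.snd (b : DualNumber k)) * eps k := by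
    refine TrivSqZeroExt.ext ?_ ?_
    · show TrivSqZeroExt.fst (b : DualNumber k) = TrivSqZeroExt.fst (b : DualNumber k) + TrivSqZeroExt.snd (b : DualNumber k) * 0
      rw [mul_zero, add_zero]
    · show TrivSqZeroExt.snd (b : DualNumber k) = 0 + (TrivSqZeroExt.snd (b : DualNumber k) * 1 + 0 * 0)
      simp
  conv_lhs => rw [e, map_add, map_mul]
  rw [map_mul, map_mul, cι_str, cι_str]
  ring

theorem ddS_scale (c : k) (z : Γ(XA x (dual k k), (chart x (dual k k) U).1)) :
    ddS x U (cπ x (scale c) U z) = ThickAff3.str x U.1 c * ddS x U z := by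
  induction (bc_base x (dual k k) U).2.1 z using AddSubgroup.closure_induction with
  | mem z hz =>
    obtain ⟨b, r, rfl⟩ := hz
    rw [map_mul, cπ_cσ, cπ_cι, ddS_cσ_mul_cι, ddS_cσ_mul_cι, ← mul_assoc, ← map_mul]
    rfl
  | zero => simp
  | add z w _ _ hz hw => simp only [map_add, mul_add, hz, hw]
  | neg z _ hz => simp only [map_neg, mul_neg, hz]

theorem ddS_plus (z : Γ(XA x (dual2 k k), (chart x (dual2 k k) U).1)) :
    ddS x U (cπ x plus U z) = ddS x U (cπ x pr₁ U z) + ddS x U (cπ x pr₂ U z) := by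
  induction (bc_base x (dual2 k k) U).2.1 z using AddSubgroup.closure_induction with
  | mem z hz =>
    obtain ⟨b, r, rfl⟩ := hz
    rw [map_mul (cπ x plus U), map_mul (cπ x pr₁ U), map_mul (cπ x pr₂ U), cπ_cσ, cπ_cσ, cπ_cσ, cπ_cι, cπ_cι, cπ_cι,
      ddS_cσ_mul_cι, ddS_cσ_mul_cι, ddS_cσ_mul_cι, ← add_mul, ← map_add]
    rfl
  | zero => simp
  | add z w _ _ hz hw => simp only [map_add, hz, hw]; abel
  | neg z _ hz => simp only [map_neg, hz]; abel

variable {U} in
theorem cres_cι' {W : X.affineOpens} (h : W.1 ≤ U.1) (r : Γ(X, U.1)) :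
    cres x (dual k k) h (cι x (dual k k) U r) = cι x (dual k k) W (X.presheaf.map (homOfLE h).op r) :=
  cres_cι x h (dual k k) r

variable {U} in
theorem ddS_cres {W : X.affineOpens} (h : W.1 ≤ U.1) (z : Γ(XA x (dual k k), (chart x (dual k k) U).1)) :
    ddS x W (cres x (dual k k) h z) = X.presheaf.map (homOfLE h).op (ddS x U z) := by
  refine ddS_eq x W (a := X.presheaf.map (homOfLE h).op (cι₀ x (dual k k) U z)) ?_
  conv_lhs => rw [ddS_spec x U z]
  rw [map_add, map_mul, cres_cι', cres_cι', cres_cσ]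

end Groth.Agent.HomTan3
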