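import Groth.Agent.Lib.HomTan3.Mor
import Groth.Prelude.Def_OmAff

/-!
# Infinitesimal extensions of a morphism from morphisms out of differentials
-/

set_option autoImplicit false
set_option linter.style.haveILetI false
set_option backward.isDefEq.respectTransparency.types false

universe u

open CategoryTheory CategoryTheory.Limits AlgebraicGeometry IsLocalRing TopologicalSpace Opposite

namespace Groth.Agent.HomTan3

open ArtFun ArtFun.Art HilbRS3 HilbObs3

variable {k : Type u} [Field k] {X : Scheme.{u}} (x : X ⟶ Art.specPt k) {Y : Scheme.{u}} (y : Y ⟶ Art.specPt k)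
  (f : X ⟶ Y) [QuasiSeparated y] (α : Omega.sheaf y ⟶ fO f)

/-- The derivation of a morphism out of differentials. -/
noncomputable def dα (V : Y.Opens) (a : Γ(Y, V)) : Γ(X, f ⁻¹ᵁ V) :=
  α.app V (OmegaSh.dSect y V a)

theorem dα_add (V : Y.Opens) (a b : Γ(Y, V)) : dα y f α V (a + b) = dα y f α V a + dα y f α V b := by
  show α.app V _ = _
  rw [OmegaSh.dSect_add, map_add]
  rfl

theorem dα_mul (V : Y.Opens) (a b : Γ(Y, V)) :
    dα y f α V (a * b) = f.app V a * dα y f α V b + f.app V b * dα y f α V a := by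
  show α.app V _ = _
  rw [OmegaSh.dSect_mul, map_add, Scheme.Modules.Hom.app_smul, Scheme.Modules.Hom.app_smul]
  rfl

theorem dα_str (V : Y.Opens) (c : k) : dα y f α V (ThickAff3.str y V c) = 0 := by
  show α.app V (OmegaSh.dSect y V (y.appLE ⊤ V le_top ((Scheme.ΓSpecIso (CommRingCat.of k)).inv c))) = _
  rw [OmAff.dSect_appLE]
  exact map_zero _

theorem dα_res {V V' : Y.Opens} (h : V' ≤ V) (a : Γ(Y, V)) :
    X.presheaf.map (homOfLE (f.preimage_mono h)).op (dα y f α V a) =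
      dα y f α V' (Y.presheaf.map (homOfLE h).op a) := by
  show M1.mres (fO f) h (α.app V (OmegaSh.dSect y V a)) = α.app V' _
  rw [← M1.app_mres, OmegaSh.dSect_map y h a]
  rfl

/-- Morphisms out of an open are determined on a covering by smaller opens. -/
theorem hom_ext_le {Z T : Scheme.{u}} {ι : Type u} (V : ι → Z.Opens) {O : Z.Opens} (hle : ∀ i, V i ≤ O)
    (hcov : O ≤ ⨆ i, V i) (a b : (O : Scheme.{u}) ⟶ T) (h : ∀ i, Z.homOfLE (hle i) ≫ a = Z.homOfLE (hle i) ≫ b) :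
    a = b := by
  obtain rfl : O = ⨆ i, V i := le_antisymm hcov (iSup_le hle)
  exact (Scheme.Opens.iSupOpenCover V).hom_ext _ _ fun i => h i

variable {f} {U : X.affineOpens} {V : Y.Opens} (h : U.1 ≤ f ⁻¹ᵁ V)

/-- The twisted map on sections. -/
noncomputable def tw : Γ(Y, V) →+* Γ(XA x (dual k k), (chart x (dual k k) U).1) where
  toFun s := cι x (dual k k) U (f.appLE V U.1 h s) +
    cσ x (dual k k) U (eps k) * cι x (dual k k) U (X.presheaf.map (homOfLE h).op (dα y f α V s))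
  map_one' := by
    have h1 : dα y f α V 1 = 0 := by
      have := dα_mul y f α V 1 1
      rw [one_mul, map_one, one_mul] at this
      simpa using this
    rw [h1]; simp
  map_zero' := by
    have h1 : dα y f α V 0 = 0 := by
      have := dα_add y f α V 0 0
      rw [add_zero] at this
      simpa using this
    rw [h1]; simp
  map_add' a b := by
    rw [dα_add, map_add, map_add, map_add, map_add]
    ring
  map_mul' a b := by
    have hf : ∀ a : Γ(Y, V), X.presheaf.map (homOfLE h).op (f.app V a) = f.appLE V U.1 h a := fun a => rfl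
    have h0 : cσ x (dual k k) U (eps k) * cσ x (dual k k) U (eps k) = 0 := by rw [← map_mul, eps_sq, map_zero]
    rw [dα_mul, map_add (X.presheaf.map (homOfLE h).op).hom, map_mul (X.presheaf.map (homOfLE h).op).hom,
      map_mul (X.presheaf.map (homOfLE h).op).hom, hf, hf, map_mul (f.appLE V U.1 h).hom, map_mul, map_add, map_mul,
      map_mul]
    linear_combination (-(cι x (dual k k) U (X.presheaf.map (homOfLE h).op (dα y f α V a)) *
      cι x (dual k k) U (X.presheaf.map (homOfLE h).op (dα y f α V b)))) * h0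

theorem ddS_tw (s : Γ(Y, V)) : ddS x U (tw x y α h s) = X.presheaf.map (homOfLE h).op (dα y f α V s) :=
  ddS_eq x U rfl

theorem cι₀_tw (s : Γ(Y, V)) : cι₀ x (dual k k) U (tw x y α h s) = f.appLE V U.1 h s := by
  show cι₀ x (dual k k) U (_ + _) = _
  rw [map_add, map_mul, cι₀_cι, cι₀_σε, zero_mul, add_zero]

theorem cres_tw {W : X.affineOpens} {V' : Y.Opens} (hWU : W.1 ≤ U.1) (hV : V' ≤ V) (h' : W.1 ≤ f ⁻¹ᵁ V')
    (s : Γ(Y, V)) : cres x (dual k k) hWU (tw x y α h s) = tw x y α h' (Y.presheaf.map (homOfLE hV).op s) := by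
  show cres x (dual k k) hWU (_ + _) = _ + _
  rw [map_add, map_mul, cres_cι', cres_cι', cres_cσ]
  congr 1
  · congr 1
    have e : f.appLE V U.1 h ≫ X.presheaf.map (homOfLE hWU).op =
        Y.presheaf.map (homOfLE hV).op ≫ f.appLE V' W.1 h' := by
      rw [Scheme.Hom.appLE_map, Scheme.Hom.map_appLE]
    exact congrArg (fun m : Γ(Y, V) ⟶ Γ(X, W.1) => m.hom s) e
  · congr 1
    rw [← dα_res y f α hV s, ← ConcreteCategory.comp_apply, ← ConcreteCategory.comp_apply, ← X.presheaf.map_comp,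
      ← X.presheaf.map_comp]
    rfl

variable (f) in
/-- The morphism of a derivation. -/
theorem exists_ext1 [Y.IsSeparated] (hf : f ≫ y = x) :
    ∃ g : Ext1 x y f (dual k k), ∀ (U : X.affineOpens) (V : Y.affineOpens) (h : U.1 ≤ f ⁻¹ᵁ V.1) (s : Γ(Y, V.1)),
      gS g h s = tw x y α h s := by
  let I := {p : X.affineOpens × Y.affineOpens // p.1.1 ≤ f ⁻¹ᵁ p.2.1}
  let W : I → (XA x (dual k k)).Opens := fun i => (chart x (dual k k) i.1.1).1
  have hcov : ⨆ i, W i = ⊤ := TopologicalSpace.Opens.ext (Set.eq_univ_of_forall fun p => by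
    let q := pullback.fst x (specOver (dual k k)) p
    obtain ⟨V, hV, hqV, -⟩ := exists_isAffineOpen_mem_and_subset (Opens.mem_top (f q))
    obtain ⟨U, hU, hqU, hUV⟩ := exists_isAffineOpen_mem_and_subset (show q ∈ f ⁻¹ᵁ V from hqV)
    exact TopologicalSpace.Opens.mem_iSup.2 ⟨⟨(⟨U, hU⟩, ⟨V, hV⟩), hUV⟩, hqU⟩)
  let m : ∀ i : I, (W i : Scheme.{u}) ⟶ Y := fun i =>
    (chart x (dual k k) i.1.1).2.isoSpec.hom ≫ Spec.map (CommRingCat.ofHom (tw x y α i.2)) ≫ i.1.2.2.fromSpec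
  have hmono : ∀ (i j : I) (hU : j.1.1.1 ≤ i.1.1.1) (hV : j.1.2.1 ≤ i.1.2.1),
      (XA x (dual k k)).homOfLE (HilbObs3.chart_mono x (dual k k) hU) ≫ m i = m j := by
    intro i j hU hV
    have e1 : (XA x (dual k k)).homOfLE (HilbObs3.chart_mono x (dual k k) hU) ≫ (chart x (dual k k) i.1.1).2.isoSpec.hom =
        (chart x (dual k k) j.1.1).2.isoSpec.hom ≫
          Spec.map ((XA x (dual k k)).presheaf.map (homOfLE (HilbObs3.chart_mono x (dual k k) hU)).op) := by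
      rw [← cancel_mono (chart x (dual k k) i.1.1).2.fromSpec, Category.assoc, Category.assoc,
        IsAffineOpen.map_fromSpec _ (chart x (dual k k) j.1.1).2, IsAffineOpen.isoSpec_hom_fromSpec,
        IsAffineOpen.isoSpec_hom_fromSpec, Scheme.homOfLE_ι]
    have e2 : CommRingCat.ofHom (tw x y α i.2) ≫
        (XA x (dual k k)).presheaf.map (homOfLE (HilbObs3.chart_mono x (dual k k) hU)).op =
        Y.presheaf.map (homOfLE hV).op ≫ CommRingCat.ofHom (tw x y α j.2) :=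
      CommRingCat.hom_ext (RingHom.ext fun s => cres_tw x y α i.2 hU hV j.2 s)
    show _ ≫ (chart x (dual k k) i.1.1).2.isoSpec.hom ≫ _ ≫ _ = _
    rw [reassoc_of% e1, ← Spec.map_comp_assoc, e2, Spec.map_comp_assoc, IsAffineOpen.map_fromSpec i.1.2.2 j.1.2.2]
  let 𝒰 := Scheme.openCoverOfIsOpenCover (XA x (dual k k)) W hcov
  have hcompat : ∀ (i j : 𝒰.I₀), pullback.fst (𝒰.f i) (𝒰.f j) ≫ m i = pullback.snd _ _ ≫ m j := fun (i j : I) => by
    have hp := isPullback_opens_inf (W i) (W j)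
    change pullback.fst (W i).ι (W j).ι ≫ m i = pullback.snd (W i).ι (W j).ι ≫ m j
    rw [← cancel_epi hp.isoPullback.hom, IsPullback.isoPullback_hom_fst_assoc, IsPullback.isoPullback_hom_snd_assoc]
    obtain ⟨⟨Ui, Vi⟩, hi⟩ := i
    obtain ⟨⟨Uj, Vj⟩, hj⟩ := j
    have hVV : IsAffineOpen (Vi.1 ⊓ Vj.1) := Vi.2.inf Vj.2
    have hcov2 : ∀ p : (W ⟨(Ui, Vi), hi⟩ ⊓ W ⟨(Uj, Vj), hj⟩ : (XA x (dual k k)).Opens),
        ∃ l : I, (p : ↥(XA x (dual k k))) ∈ W l ∧ l.1.1.1 ≤ Ui.1 ⊓ Uj.1 ∧ l.1.2.1 ≤ Vi.1 ⊓ Vj.1 := by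
      intro p
      let q := pullback.fst x (specOver (dual k k)) p.1
      have hq : q ∈ (Ui.1 ⊓ Uj.1 : X.Opens) ⊓ f ⁻¹ᵁ (Vi.1 ⊓ Vj.1) := ⟨⟨p.2.1, p.2.2⟩, hi p.2.1, hj p.2.2⟩
      obtain ⟨U, hU, hqU, hUle⟩ := exists_isAffineOpen_mem_and_subset hq
      exact ⟨⟨(⟨U, hU⟩, ⟨_, hVV⟩), fun z hz => (hUle hz).2⟩, hqU, fun z hz => (hUle hz).1, le_refl _⟩
    choose l hpl hlU hlV using hcov2
    have hle : ∀ p, W (l p) ≤ W ⟨(Ui, Vi), hi⟩ ⊓ W ⟨(Uj, Vj), hj⟩ := fun p =>
      le_inf (HilbObs3.chart_mono x (dual k k) ((hlU p).trans inf_le_left))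
        (HilbObs3.chart_mono x (dual k k) ((hlU p).trans inf_le_right))
    refine hom_ext_le (fun p => W (l p)) hle (fun p hp => TopologicalSpace.Opens.mem_iSup.2 ⟨⟨p, hp⟩, hpl _⟩) _ _ fun p => ?_
    rw [Scheme.homOfLE_homOfLE_assoc, Scheme.homOfLE_homOfLE_assoc]
    exact (hmono ⟨(Ui, Vi), hi⟩ (l p) ((hlU p).trans inf_le_left) ((hlV p).trans inf_le_left)).trans
      (hmono ⟨(Uj, Vj), hj⟩ (l p) ((hlU p).trans inf_le_right) ((hlV p).trans inf_le_right)).symm
  let G := 𝒰.glueMorphisms m hcompat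
  have hG : ∀ i : I, (chart x (dual k k) i.1.1).2.fromSpec ≫ G =
      Spec.map (CommRingCat.ofHom (tw x y α i.2)) ≫ i.1.2.2.fromSpec := by
    intro i
    rw [← IsAffineOpen.isoSpec_inv_ι, Category.assoc]
    change _ ≫ 𝒰.f i ≫ _ = _
    rw [Scheme.Cover.ι_glueMorphisms]
    show _ ≫ (chart x (dual k k) i.1.1).2.isoSpec.hom ≫ _ = _
    rw [Iso.inv_hom_id_assoc]
  have hincl : XAincl x (dual k k) ≫ G = f := by
    refine Scheme.Cover.hom_ext (Scheme.openCoverOfIsOpenCover X (fun i : I => i.1.1.1) ?_) _ _ fun (i : I) => ?_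
    · refine TopologicalSpace.Opens.ext (Set.eq_univ_of_forall fun q => ?_)
      obtain ⟨V, hV, hqV, -⟩ := exists_isAffineOpen_mem_and_subset (Opens.mem_top (f q))
      obtain ⟨U, hU, hqU, hUV⟩ := exists_isAffineOpen_mem_and_subset (show q ∈ f ⁻¹ᵁ V from hqV)
      exact TopologicalSpace.Opens.mem_iSup.2 ⟨⟨(⟨U, hU⟩, ⟨V, hV⟩), hUV⟩, hqU⟩
    change i.1.1.1.ι ≫ _ = i.1.1.1.ι ≫ f
    rw [← cancel_epi i.1.1.2.isoSpec.inv, IsAffineOpen.isoSpec_inv_ι_assoc, IsAffineOpen.isoSpec_inv_ι_assoc,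
      ← IsAffineOpen.SpecMap_appLE_fromSpec_assoc (XAincl x (dual k k)) (chart x (dual k k) i.1.1).2 i.1.1.2
        (preimage_incl x (dual k k) i.1.1).ge, hG i, ← Spec.map_comp_assoc,
      ← IsAffineOpen.SpecMap_appLE_fromSpec f i.1.2.2 i.1.1.2 i.2]
    exact congrArg (fun m => Spec.map m ≫ _) (CommRingCat.hom_ext (RingHom.ext fun s => cι₀_tw x y α i.2 s))
  have hover : G ≫ y = pullback.fst x (specOver (dual k k)) ≫ x := by
    refine Scheme.Cover.hom_ext 𝒰 _ _ fun (i : I) => ?_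
    change (chart x (dual k k) i.1.1).1.ι ≫ _ = (chart x (dual k k) i.1.1).1.ι ≫ _
    have hx : i.1.1.1 ≤ x ⁻¹ᵁ (⊤ : (Spec (CommRingCat.of k)).Opens) := fun _ _ => trivial
    rw [← cancel_epi (chart x (dual k k) i.1.1).2.isoSpec.inv, IsAffineOpen.isoSpec_inv_ι_assoc,
      IsAffineOpen.isoSpec_inv_ι_assoc, reassoc_of% (hG i),
      ← IsAffineOpen.SpecMap_appLE_fromSpec y (isAffineOpen_top _) i.1.2.2 le_top,
      ← IsAffineOpen.SpecMap_appLE_fromSpec_assoc (pullback.fst x (specOver (dual k k))) i.1.1.2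
        (chart x (dual k k) i.1.1).2 le_rfl,
      ← IsAffineOpen.SpecMap_appLE_fromSpec x (isAffineOpen_top _) i.1.1.2 le_top, ← Spec.map_comp_assoc,
      ← Spec.map_comp_assoc]
    refine congrArg (fun m => Spec.map m ≫ _) (CommRingCat.hom_ext (RingHom.ext fun c => ?_))
    obtain ⟨c, rfl⟩ : ∃ c₀ : k, (Scheme.ΓSpecIso (CommRingCat.of k)).inv c₀ = c :=
      (ConcreteCategory.bijective_of_isIso (Scheme.ΓSpecIso (CommRingCat.of k)).inv).2 c
    show tw x y α i.2 (ThickAff3.str y i.1.2.1 c) =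
      (pullback.fst x (specOver (dual k k))).appLE i.1.1.1 _ le_rfl (ThickAff3.str x i.1.1.1 c)
    show cι x (dual k k) i.1.1 _ + _ = _
    rw [dα_str, map_zero, map_zero, mul_zero, add_zero, ← Scheme.Hom.app_eq_appLE]
    congr 1
    have e : y.appLE ⊤ i.1.2.1 le_top ≫ f.appLE i.1.2.1 i.1.1.1 i.2 = x.appLE ⊤ i.1.1.1 le_top := by
      rw [Scheme.Hom.appLE_comp_appLE]
      simp only [hf]
    exact congrArg (fun m : Γ(Spec (CommRingCat.of k), ⊤) ⟶ Γ(X, i.1.1.1) => m.hom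
      ((Scheme.ΓSpecIso (CommRingCat.of k)).inv c)) e
  refine ⟨⟨G, hincl, hover⟩, fun U V h s => ?_⟩
  have e : G.appLE V.1 (chart x (dual k k) U).1 (chart_le (⟨G, hincl, hover⟩ : Ext1 x y f (dual k k)) h) =
      CommRingCat.ofHom (tw x y α h) := by
    refine Spec.map_injective ((cancel_mono V.2.fromSpec).1 ?_)
    rw [IsAffineOpen.SpecMap_appLE_fromSpec G V.2 (chart x (dual k k) U).2 _]
    exact hG ⟨(U, V), h⟩
  exact congrArg (fun m : Γ(Y, V.1) ⟶ Γ(XA x (dual k k), (chart x (dual k k) U).1) => m.hom s) e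

end Groth.Agent.HomTan3
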