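import Groth.Agent.Lib.DefAut3.Der

/-!
# Derivations given on affine opens and morphisms out of the sheaf of differentials
-/

set_option autoImplicit false
set_option backward.isDefEq.respectTransparency false
set_option backward.isDefEq.respectTransparency.types false
set_option linter.style.haveILetI false

universe u

open CategoryTheory CategoryTheory.Limits AlgebraicGeometry TopologicalSpace Opposite

namespace Groth.Agent.HomTan3

variable {k : Type u} [CommRing k] {Y : Scheme.{u}} (y : Y ⟶ Spec (CommRingCat.of k)) [QuasiSeparated y]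
  {M : Y.Modules}

/-- A derivation given on affine opens is induced by a morphism out of `Omega`. -/
theorem exists_hom_of_der (D : ∀ V : Y.affineOpens, Γ(Y, V.1) → Γ(M, V.1))
    (hadd : ∀ V a b, D V (a + b) = D V a + D V b)
    (hmul : ∀ V a b, D V (a * b) = a • D V b + b • D V a)
    (hconst : ∀ V c, D V (ThickAff3.str y V.1 c) = 0)
    (hres : ∀ (U V : Y.affineOpens) (h : V.1 ≤ U.1) a,
      M1.mres M h (D U a) = D V (Y.presheaf.map (homOfLE h).op a)) :
    ∃ α : Omega.sheaf y ⟶ M, ∀ (V : Y.affineOpens) s, α.app V.1 (OmegaSh.dSect y V.1 s) = D V s := by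
  have key : ∀ U : Y.affineOpens, True → ∃ l : Γ(Omega.sheaf y, U.1) →+ Γ(M, U.1),
      (∀ (r : Γ(Y, U.1)) (m : Γ(Omega.sheaf y, U.1)), l (r • m) = r • l m) ∧
        ∀ s, l (OmegaSh.dSect y U.1 s) = D U s := by
    intro U _
    let T := OmAff.toSect y ⊤ U.1 le_top
    haveI : IsIso T := (ConcreteCategory.isIso_iff_bijective T).2
      (Omega12.bijective_toSect y U.2 (isAffineOpen_top _) le_top)
    let dd : (OmAff.sectMod M U.1).Derivation (y.appLE ⊤ U.1 le_top) :=
      ModuleCat.Derivation.mk (fun b => (D U b : Γ(M, U.1))) (hadd U) (hmul U) fun c => by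
        have := hconst U ((Scheme.ΓSpecIso (CommRingCat.of k)).hom c)
        rw [show ThickAff3.str y U.1 ((Scheme.ΓSpecIso (CommRingCat.of k)).hom c) = y.appLE ⊤ U.1 le_top c from
          congrArg (fun φ : Γ(Spec (CommRingCat.of k), ⊤) ⟶ Γ(Y, U.1) => φ.hom c)
            (Iso.hom_inv_id_assoc (Scheme.ΓSpecIso (CommRingCat.of k)) (y.appLE ⊤ U.1 le_top))] at this
        exact this
    let L := inv T ≫ dd.desc
    refine ⟨L.hom.toAddMonoidHom, fun r m => L.hom.map_smul r m, fun s => ?_⟩
    show (inv T ≫ dd.desc) (OmegaSh.dSect y U.1 s) = _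
    rw [← OmAff.toSect_d y ⊤ U.1 le_top s, ← CategoryTheory.comp_apply, IsIso.hom_inv_id_assoc]
    exact dd.desc_d s
  choose l hsmul hl using key
  obtain ⟨φ, hφ⟩ := KoszShH13.exists_glue KoszShH13.isAffBasis_top l hsmul (fun U hU W hW hle m => by
    refine DFunLike.congr_fun (Omega12.sect_ext y U.2 (isAffineOpen_top _) le_top
      (Y.presheaf.map (homOfLE hle).op).hom
      ((M1.mres M hle).hom.comp (l U hU)) ((l W hW).comp (M1.mres (Omega.sheaf y) hle).hom) ?_ ?_ ?_) m
    · intro r m
      show M1.mres M hle (l U hU (r • m)) = _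
      rw [hsmul, M1.mres_smul]
      rfl
    · intro r m
      show l W hW (M1.mres _ hle (r • m)) = _
      rw [M1.mres_smul, hsmul]
      rfl
    · intro b
      show M1.mres M hle (l U hU (OmegaSh.dSect y U.1 b)) = l W hW (M1.mres _ hle (OmegaSh.dSect y U.1 b))
      rw [hl U hU, show M1.mres (Omega.sheaf y) hle (OmegaSh.dSect y U.1 b) =
        OmegaSh.dSect y W.1 (Y.presheaf.map (homOfLE hle).op b) from (OmegaSh.dSect_map y hle b).symm, hl W hW]
      exact hres U W hle b)
  exact ⟨φ, fun U s => by rw [hφ U trivial, hl U trivial]⟩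

/-- Morphisms out of `Omega` are determined on differentials of affine opens. -/
theorem hom_ext_affine (α β : Omega.sheaf y ⟶ M)
    (h : ∀ (V : Y.affineOpens) s, α.app V.1 (OmegaSh.dSect y V.1 s) = β.app V.1 (OmegaSh.dSect y V.1 s)) :
    α = β := by
  refine KoszShH13.hom_ext_basis KoszShH13.isAffBasis_top fun U _ m => ?_
  exact DFunLike.congr_fun (Omega12.sect_ext y U.2 (isAffineOpen_top _) le_top (RingHom.id _) (α.app U.1).hom
    (β.app U.1).hom (fun r z => Scheme.Modules.Hom.app_smul α r z) (fun r z => Scheme.Modules.Hom.app_smul β r z)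
    fun b => h U b) m

end Groth.Agent.HomTan3
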