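import Groth.Agent.Lib.HomTan3.Tan

/-!
# The cotangent space of a scheme of morphisms
-/

set_option autoImplicit false
set_option linter.style.haveILetI false
set_option backward.isDefEq.respectTransparency.types false

universe u

open CategoryTheory CategoryTheory.Limits AlgebraicGeometry IsLocalRing Opposite MonoidalCategory

namespace Groth.Agent.HomTan3

open ArtFun ArtFun.Art HilbRS3 HilbObs3 HilbPt3

variable {k : Type u} [Field k] {X : Scheme.{u}} [X.Over (Spec (CommRingCat.of k))] {Y : Scheme.{u}}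
  {y : Y ⟶ Art.specPt k} {f : X ⟶ Y} [QuasiSeparated y] [Y.IsSeparated]
  [DCoh.HasSheafHom ((Scheme.Modules.pullback f).obj (Omega.sheaf y))]
  {S : Type u} [CommRing S] [Algebra k S] {res : S →ₐ[k] k}

theorem exists_linearEquiv (hf : f ≫ y = X ↘ Spec (CommRingCat.of k))
    (θ : ∀ A : Art k k, HomSet S res A → Ext1 (X ↘ Spec (CommRingCat.of k)) y f A)
    (hnat : ∀ {A B : Art k k} (g : A ⟶ B) (ψ : HomSet S res A), θ B (HomSet.map g ψ) = (θ A ψ).map g)
    (hbij : Function.Bijective (θ (dual k k))) [TangentStr (hR S res)] :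
    Nonempty (TangentSpace (hR S res) ≃ₗ[k] Coh.HH X
      ((DCoh.sheafHom ((Scheme.Modules.pullback f).obj (Omega.sheaf y))).obj (Coh.structureModule X)) 0) := by
  let F : TangentSpace (hR S res) → Coh.HH X
      ((DCoh.sheafHom ((Scheme.Modules.pullback f).obj (Omega.sheaf y))).obj (Coh.structureModule X)) 0 :=
    fun a => (Qe y f).symm (Φ (θ _ a.val))
  have hF : ∀ a, Qe y f (F a) = Φ (θ _ a.val) := fun a => (Qe y f).apply_symm_apply _
  have hadd : ∀ a b, F (a + b) = F a + F b := fun a b => by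
    obtain ⟨z, h1, h2⟩ := (ArtFunLib.cmp_surjective_iff _ _).1
      ((ArtFunLib.rs_hR res).heps _ _ isFibreProd_dual2).2 a.val b.val
      (ArtFunLib.subsingleton_base (ArtFunLib.h0_hR res) _ _)
    rw [show a + b = TangentSpace.mk ((hR _ res).map plus z) from by
      rw [← ArtFunLib.add_def, h1, h2]; rfl,
      show a = TangentSpace.mk ((hR _ res).map pr₁ z) from h1.symm,
      show b = TangentSpace.mk ((hR _ res).map pr₂ z) from h2.symm]
    refine (Qe y f).injective ?_
    rw [Qe_add, hF, hF, hF]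
    show Φ (θ _ (HomSet.map plus z)) = Φ (θ _ (HomSet.map pr₁ z)) + Φ (θ _ (HomSet.map pr₂ z))
    rw [hnat, hnat, hnat, Φ_plus]
  have hsmul : ∀ (c : k) a, F (c • a) = c • F a := fun c a => by
    rw [ArtFunLib.smul_def]
    refine (Qe y f).injective (hom_ext_affine y _ _ fun V s => ?_)
    rw [hF]
    show (show Γ(X, f ⁻¹ᵁ V.1) from (Φ (θ _ (HomSet.map (scale c) a.val))).app V.1 (OmegaSh.dSect y V.1 s)) =
      (show Γ(X, f ⁻¹ᵁ V.1) from (Qe y f (c • F a)).app V.1 (OmegaSh.dSect y V.1 s))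
    rw [Qe_smul, hF, hnat, Φ_scale]
  exact ⟨LinearEquiv.ofBijective { toFun := F, map_add' := hadd, map_smul' := hsmul }
    ⟨fun a b hab => hbij.1 (Φ_injective ((Qe y f).symm.injective hab)), fun z => by
      obtain ⟨g, hg⟩ := Φ_surjective hf (Qe y f z)
      obtain ⟨ψ, rfl⟩ := hbij.2 g
      exact ⟨TangentSpace.mk ψ, ((Qe y f).symm_apply_eq).2 hg⟩⟩⟩

theorem finrank_cotangentSpace (hf : f ≫ y = X ↘ Spec (CommRingCat.of k)) {M : Over (Art.specPt k)}
    (υ : Over.mk (X ↘ Spec (CommRingCat.of k)) ⊗ M ⟶ Over.mk y)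
    (hM : ∀ (T : Over (Art.specPt k)) (φ : Over.mk (X ↘ Spec (CommRingCat.of k)) ⊗ T ⟶ Over.mk y),
      ∃! a : T ⟶ M, (Over.mk (X ↘ Spec (CommRingCat.of k)) ◁ a) ≫ υ = φ)
    (af : (Pt : Over (Art.specPt k)) ⟶ M)
    (haf : ((Over.mk (X ↘ Spec (CommRingCat.of k)) ◁ af) ≫ υ).left =
      pullback.fst (X ↘ Spec (CommRingCat.of k)) (𝟙 (Art.specPt k)) ≫ f) :
    Module.finrank (ResidueField (M.left.presheaf.stalk (pt af))) (CotangentSpace (M.left.presheaf.stalk (pt af))) =
      Module.finrank k (Coh.HH X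
        ((DCoh.sheafHom ((Scheme.Modules.pullback f).obj (Omega.sheaf y))).obj (Coh.structureModule X)) 0) := by
  obtain ⟨T⟩ := ArtFunLib.nonempty_tangentStr (ArtFunLib.h0_hR (augO af)) (ArtFunLib.rs_hR (augO af)).heps
  letI := T
  obtain ⟨e⟩ := exists_linearEquiv (S := M.left.presheaf.stalk (pt af)) (res := augO af) hf
    (fun A ψ => toExt1 _ y υ af haf (ofHomSet af A ψ))
    (fun g ψ => by rw [← toExt1_map, ofHomSet_map])
    ((toExt1_bijective _ y υ hM af haf (dual k k)).comp (ofHomSet_bijective af _))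
  obtain ⟨d⟩ := nonempty_tangent_dual (augO af) (augO_surjective af)
  rw [← e.finrank_eq, d.finrank_eq, Subspace.dual_finrank_eq]
  let ι : k →+* ResidueField (M.left.presheaf.stalk (pt af)) := (residue _).comp (algebraMap k _)
  have hι : Function.Bijective ι := by
    refine ⟨RingHom.injective _, fun c => ?_⟩
    obtain ⟨a, rfl⟩ := Ideal.Quotient.mk_surjective c
    exact ⟨augO af a, (Ideal.Quotient.eq.2 (sub_res_mem (augO af) (augO_surjective af) a)).symm⟩
  refine congrArg Cardinal.toNat (rank_eq_of_equiv_equiv ι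
    (AddEquiv.refl (maximalIdeal (M.left.presheaf.stalk (pt af))).Cotangent) hι fun c m => ?_).symm
  show c • m = (residue _ (algebraMap k _ c)) • m
  obtain ⟨m, rfl⟩ := (maximalIdeal _).toCotangent_surjective m
  rw [← algebraMap_smul (M.left.presheaf.stalk (pt af)) c]
  rfl

end Groth.Agent.HomTan3
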