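import Groth.Agent.Lib.HomTan3.Dd
import Groth.Agent.Lib.HomTan3.Der
import Groth.Agent.Lib.HilbRS3.Surj
import Groth.Agent.Lib.KoszShH13.Glue

/-!
# Morphisms `X × Spec k[ε] → Y` extending a morphism and derivations
-/

set_option autoImplicit false
set_option linter.style.haveILetI false
set_option backward.isDefEq.respectTransparency.types false

universe u

open CategoryTheory CategoryTheory.Limits AlgebraicGeometry IsLocalRing TopologicalSpace Opposite

namespace Groth.Agent.HomTan3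

open ArtFun ArtFun.Art HilbRS3 HilbObs3

variable {k : Type u} [Field k] {X : Scheme.{u}} (x : X ⟶ Art.specPt k) {Y : Scheme.{u}} (y : Y ⟶ Art.specPt k)
  (f : X ⟶ Y)

/-- Morphisms over the field from `X × Spec A` extending `f`. -/
abbrev Ext1 (A : Art k k) : Type u :=
  {g : XA x A ⟶ Y // XAincl x A ≫ g = f ∧ g ≫ y = pullback.fst x (specOver A) ≫ x}

variable {x y f} {A : Art k k}

theorem chart_le (g : Ext1 x y f A) {U : X.affineOpens} {V : Y.Opens} (h : U.1 ≤ f ⁻¹ᵁ V) :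
    (chart x A U).1 ≤ g.1 ⁻¹ᵁ V := by
  intro p hp
  haveI := HilbRS3.surjective_incl x A
  obtain ⟨q, rfl⟩ := (XAincl x A).surjective p
  have hq : q ∈ U.1 := by
    rw [← preimage_incl x A U]; exact hp
  have h2 : f q ∈ V := h hq
  rw [← g.2.1, Scheme.Hom.comp_apply] at h2
  exact h2

/-- The map on sections over a chart. -/
noncomputable def gS (g : Ext1 x y f A) {U : X.affineOpens} {V : Y.Opens} (h : U.1 ≤ f ⁻¹ᵁ V) :
    Γ(Y, V) →+* Γ(XA x A, (chart x A U).1) :=
  (g.1.appLE V (chart x A U).1 (chart_le g h)).hom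

theorem cι₀_gS (g : Ext1 x y f A) {U : X.affineOpens} {V : Y.Opens} (h : U.1 ≤ f ⁻¹ᵁ V) (s : Γ(Y, V)) :
    cι₀ x A U (gS g h s) = f.appLE V U.1 h s := by
  show (g.1.appLE V (chart x A U).1 (chart_le g h) ≫
    (XAincl x A).appLE (chart x A U).1 U.1 (preimage_incl x A U).ge).hom s = _
  rw [Scheme.Hom.appLE_comp_appLE]
  simp only [g.2.1]

theorem gS_str (g : Ext1 x y f A) {U : X.affineOpens} {V : Y.Opens} (h : U.1 ≤ f ⁻¹ᵁ V) (c : k) :
    gS g h (ThickAff3.str y V c) = cι x A U (ThickAff3.str x U.1 c) := by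
  have e : y.appLE ⊤ V le_top ≫ g.1.appLE V (chart x A U).1 (chart_le g h) =
      x.appLE ⊤ U.1 le_top ≫ (pullback.fst x (specOver A)).appLE U.1 (chart x A U).1 le_rfl := by
    rw [Scheme.Hom.appLE_comp_appLE, Scheme.Hom.appLE_comp_appLE]
    simp only [g.2.2]
  refine (congrArg (fun m : Γ(Spec (CommRingCat.of k), ⊤) ⟶ Γ(XA x A, (chart x A U).1) =>
    m.hom ((Scheme.ΓSpecIso (CommRingCat.of k)).inv c)) e).trans ?_
  exact congrArg (fun φ : Γ(X, U.1) ⟶ Γ(XA x A, (chart x A U).1) => φ.hom (ThickAff3.str x U.1 c))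
    (Scheme.Hom.app_eq_appLE _).symm

theorem gS_res (g : Ext1 x y f A) {U W : X.affineOpens} {V V' : Y.Opens} (hWU : W.1 ≤ U.1) (hV : V' ≤ V)
    (h : U.1 ≤ f ⁻¹ᵁ V) (h' : W.1 ≤ f ⁻¹ᵁ V') (s : Γ(Y, V)) :
    cres x A hWU (gS g h s) = gS g h' (Y.presheaf.map (homOfLE hV).op s) := by
  have e : g.1.appLE V (chart x A U).1 (chart_le g h) ≫
      (XA x A).presheaf.map (homOfLE (HilbObs3.chart_mono x A hWU)).op =
      Y.presheaf.map (homOfLE hV).op ≫ g.1.appLE V' (chart x A W).1 (chart_le g h') := by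
    rw [Scheme.Hom.appLE_map, Scheme.Hom.map_appLE]
  exact congrArg (fun m : Γ(Y, V) ⟶ Γ(XA x A, (chart x A W).1) => m.hom s) e

/-- Morphisms are determined by their maps on sections over charts. -/
theorem ext_gS (g g' : Ext1 x y f A)
    (h : ∀ (U : X.affineOpens) (V : Y.affineOpens) (hle : U.1 ≤ f ⁻¹ᵁ V.1) (s : Γ(Y, V.1)),
      gS g hle s = gS g' hle s) : g = g' := by
  refine Subtype.ext ?_
  have hcov : ∀ p : XA x A, ∃ (U : X.affineOpens) (V : Y.affineOpens), U.1 ≤ f ⁻¹ᵁ V.1 ∧ p ∈ (chart x A U).1 := by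
    intro p
    let q := pullback.fst x (specOver A) p
    obtain ⟨V, hV, hqV, -⟩ := exists_isAffineOpen_mem_and_subset (Opens.mem_top (f q))
    obtain ⟨U, hU, hqU, hUV⟩ := exists_isAffineOpen_mem_and_subset (show q ∈ f ⁻¹ᵁ V from hqV)
    exact ⟨⟨U, hU⟩, ⟨V, hV⟩, hUV, hqU⟩
  choose U V hle hp using hcov
  refine Scheme.Cover.hom_ext (Scheme.openCoverOfIsOpenCover (XA x A) (fun p => (chart x A (U p)).1)
    (TopologicalSpace.Opens.ext (Set.eq_univ_of_forall fun p => TopologicalSpace.Opens.mem_iSup.2 ⟨p, hp p⟩))) _ _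
    fun p => ?_
  change (chart x A (U p)).1.ι ≫ g.1 = (chart x A (U p)).1.ι ≫ g'.1
  rw [← cancel_epi (chart x A (U p)).2.isoSpec.inv, IsAffineOpen.isoSpec_inv_ι_assoc,
    IsAffineOpen.isoSpec_inv_ι_assoc,
    ← IsAffineOpen.SpecMap_appLE_fromSpec g.1 (V p).2 (chart x A (U p)).2 (chart_le g (hle p)),
    ← IsAffineOpen.SpecMap_appLE_fromSpec g'.1 (V p).2 (chart x A (U p)).2 (chart_le g' (hle p))]
  exact congrArg (fun m => Spec.map m ≫ _) (CommRingCat.hom_ext (RingHom.ext fun s => h (U p) (V p) (hle p) s))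

/-- Transition. -/
noncomputable def Ext1.map {B : Art k k} (p : A ⟶ B) (g : Ext1 x y f A) : Ext1 x y f B :=
  ⟨XAmap x p ≫ g.1, by rw [← Category.assoc, XAincl_XAmap]; exact g.2.1,
    by rw [Category.assoc, g.2.2, ← Category.assoc, XAmap_fst]⟩

theorem gS_map {B : Art k k} (p : A ⟶ B) (g : Ext1 x y f A) {U : X.affineOpens} {V : Y.Opens}
    (h : U.1 ≤ f ⁻¹ᵁ V) (s : Γ(Y, V)) : gS (g.map p) h s = cπ x p U (gS g h s) := by
  show ((XAmap x p ≫ g.1).appLE V (chart x B U).1 (chart_le (g.map p) h)).hom s =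
    (g.1.appLE V (chart x A U).1 (chart_le g h) ≫
      (XAmap x p).appLE (chart x A U).1 (chart x B U).1 (preimage_chart x p U).ge).hom s
  rw [Scheme.Hom.appLE_comp_appLE]

/-- The derivation on a pair of affine opens. -/
theorem exists_D (g : Ext1 x y f (dual k k)) (V : Y.affineOpens) (s : Γ(Y, V.1)) :
    ∃ d : Γ(X, f ⁻¹ᵁ V.1), ∀ (U : X.affineOpens) (h : U.1 ≤ f ⁻¹ᵁ V.1),
      X.presheaf.map (homOfLE h).op d = ddS x U (gS g h s) := by
  let I := {U : X.affineOpens // U.1 ≤ f ⁻¹ᵁ V.1}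
  have hcov : f ⁻¹ᵁ V.1 ≤ ⨆ U : I, (U.1.1 : X.Opens) := fun q hq => by
    obtain ⟨U, hU, hqU, hUV⟩ := exists_isAffineOpen_mem_and_subset hq
    exact TopologicalSpace.Opens.mem_iSup.2 ⟨⟨⟨U, hU⟩, hUV⟩, hqU⟩
  have key : ∀ (U W : X.affineOpens) (hW : W.1 ≤ U.1) (h : U.1 ≤ f ⁻¹ᵁ V.1),
      X.presheaf.map (homOfLE hW).op (ddS x U (gS g h s)) = ddS x W (gS g (hW.trans h) s) := fun U W hW h => by
    rw [← ddS_cres x hW, gS_res g hW (le_refl V.1) h (hW.trans h)]
    simp
  obtain ⟨d, hd, -⟩ := X.sheaf.existsUnique_gluing' (fun U : I => U.1.1) (f ⁻¹ᵁ V.1) (fun U => homOfLE U.2) hcov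
    (fun U => ddS x U.1 (gS g U.2 s)) (fun U U' => by
      have hc : ∀ p : (U.1.1 ⊓ U'.1.1 : X.Opens), ∃ W : X.affineOpens, (p : X) ∈ W.1 ∧ W.1 ≤ U.1.1 ⊓ U'.1.1 := fun p => by
        obtain ⟨W, hW, hp, hle⟩ := exists_isAffineOpen_mem_and_subset p.2
        exact ⟨⟨W, hW⟩, hp, hle⟩
      choose W hpW hWle using hc
      refine ThickAff3.eq_of_res (fun p => (W p).1) (fun p => hWle p) (fun q hq => ?_) _ _ fun p => ?_
      · exact TopologicalSpace.Opens.mem_iSup.2 ⟨⟨q, hq⟩, hpW _⟩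
      · refine (ThickAff3.res_res X _ _ _).trans (Eq.trans ?_ (ThickAff3.res_res X _ _ _).symm)
        exact (key U.1 (W p) ((hWle p).trans inf_le_left) U.2).trans
          (key U'.1 (W p) ((hWle p).trans inf_le_right) U'.2).symm)
  exact ⟨d, fun U h => hd ⟨U, h⟩⟩

theorem section_ext {O : X.Opens} {a b : Γ(X, O)}
    (h : ∀ (U : X.affineOpens) (hU : U.1 ≤ O), X.presheaf.map (homOfLE hU).op a = X.presheaf.map (homOfLE hU).op b) :
    a = b :=
  ThickAff3.eq_of_res (fun U : {U : X.affineOpens // U.1 ≤ O} => (U.1.1 : X.Opens)) (fun U => U.2)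
    (fun q hq => by
      obtain ⟨U, hU, hqU, hUV⟩ := exists_isAffineOpen_mem_and_subset hq
      exact TopologicalSpace.Opens.mem_iSup.2 ⟨⟨⟨U, hU⟩, hUV⟩, hqU⟩) _ _ fun U => h U.1 U.2

variable (f) in
/-- Functions on `X` as a module on `Y`. -/
noncomputable abbrev fO : Y.Modules := (Scheme.Modules.pushforward f).obj (Coh.structureModule X)

/-- The morphism out of differentials of an infinitesimal extension. -/
theorem exists_α [QuasiSeparated y] (g : Ext1 x y f (dual k k)) : ∃ α : Omega.sheaf y ⟶ fO f,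
    ∀ (V : Y.affineOpens) (U : X.affineOpens) (h : U.1 ≤ f ⁻¹ᵁ V.1) (s : Γ(Y, V.1)),
      X.presheaf.map (homOfLE h).op (show Γ(X, f ⁻¹ᵁ V.1) from α.app V.1 (OmegaSh.dSect y V.1 s)) =
        ddS x U (gS g h s) := by
  choose d hd using exists_D g
  have hf : ∀ (V : Y.Opens) (U : X.affineOpens) (h : U.1 ≤ f ⁻¹ᵁ V) (a : Γ(Y, V)),
      X.presheaf.map (homOfLE h).op (f.app V a) = f.appLE V U.1 h a := fun V U h a => rfl
  obtain ⟨α, hα⟩ := exists_hom_of_der y (M := fO f) (fun V s => (show Γ(fO f, V.1) from d V s))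
    (fun V a b => by
      show d V (a + b) = d V a + d V b
      refine section_ext fun U hU => ?_
      rw [map_add, hd, hd, hd, map_add, map_add])
    (fun V a b => by
      show d V (a * b) = f.app V.1 a * d V b + f.app V.1 b * d V a
      refine section_ext fun U hU => ?_
      rw [map_add, map_mul, map_mul, hd, hd, hd, hf, hf, map_mul, ddS_mul, cι₀_gS, cι₀_gS])
    (fun V c => by
      show d V _ = 0
      refine section_ext fun U hU => ?_
      rw [hd, gS_str, ddS_cι, map_zero])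
    (fun U V h a => by
      show X.presheaf.map (homOfLE (f.preimage_mono h)).op (d U a) = d V _
      refine section_ext fun W hW => ?_
      rw [hd]
      refine Eq.trans ?_ ((hd U a W (hW.trans (f.preimage_mono h))).trans ?_)
      · exact (ConcreteCategory.congr_hom (X.presheaf.map_comp (homOfLE (f.preimage_mono h)).op (homOfLE hW).op)
          (d U a)).symm
      · congr 1
        have := gS_res g (le_refl W.1) h (hW.trans (f.preimage_mono h)) hW a
        rw [← this]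
        simp [cres])
  exact ⟨α, fun V U h s => by rw [hα]; exact hd V s U h⟩

end Groth.Agent.HomTan3
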