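import Groth.Agent.Lib.HomTan3.Build
import Groth.Agent.Lib.HilbRS3.NormalH0
import Groth.Agent.Lib.HilbPt3.Local
import Groth.Agent.Lib.HilbPt3.Smooth
import Groth.Agent.Lib.QuotExt3.Point
import Groth.Agent.Lib.ArtFun.Tangent

/-!
# The tangent space of a scheme of morphisms at a rational point
-/

set_option autoImplicit false
set_option linter.style.haveILetI false
set_option backward.isDefEq.respectTransparency.types false

universe u

open CategoryTheory CategoryTheory.Limits AlgebraicGeometry IsLocalRing Opposite MonoidalCategory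

namespace Groth.Agent.HomTan3

open ArtFun ArtFun.Art HilbRS3 HilbObs3 HilbPt3

variable {k : Type u} [Field k] {X : Scheme.{u}} {x : X ⟶ Art.specPt k} {Y : Scheme.{u}} {y : Y ⟶ Art.specPt k}
  {f : X ⟶ Y} [QuasiSeparated y]

/-- The morphism out of differentials of a first-order extension. -/
noncomputable def Φ (g : Ext1 x y f (dual k k)) : Omega.sheaf y ⟶ fO f := (exists_α g).choose

theorem Φ_spec (g : Ext1 x y f (dual k k)) (V : Y.affineOpens) (U : X.affineOpens) (h : U.1 ≤ f ⁻¹ᵁ V.1)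
    (s : Γ(Y, V.1)) :
    X.presheaf.map (homOfLE h).op (show Γ(X, f ⁻¹ᵁ V.1) from (Φ g).app V.1 (OmegaSh.dSect y V.1 s)) =
      ddS x U (gS g h s) :=
  (exists_α g).choose_spec V U h s

/-- Morphisms out of differentials are determined on charts. -/
theorem hom_ext_charts {α β : Omega.sheaf y ⟶ fO f}
    (h : ∀ (V : Y.affineOpens) (U : X.affineOpens) (hU : U.1 ≤ f ⁻¹ᵁ V.1) (s : Γ(Y, V.1)),
      X.presheaf.map (homOfLE hU).op (show Γ(X, f ⁻¹ᵁ V.1) from α.app V.1 (OmegaSh.dSect y V.1 s)) =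
        X.presheaf.map (homOfLE hU).op (show Γ(X, f ⁻¹ᵁ V.1) from β.app V.1 (OmegaSh.dSect y V.1 s))) :
    α = β :=
  hom_ext_affine y α β fun V s => section_ext fun U hU => h V U hU s

theorem Φ_injective : Function.Injective (Φ : Ext1 x y f (dual k k) → _) := fun g g' e =>
  ext_gS g g' fun U V h s => by
    rw [ddS_spec x U (gS g h s), ddS_spec x U (gS g' h s), cι₀_gS, cι₀_gS, ← Φ_spec g V U h s, ← Φ_spec g' V U h s, e]

theorem Φ_surjective [Y.IsSeparated] (hf : f ≫ y = x) : Function.Surjective (Φ : Ext1 x y f (dual k k) → _) := fun α => by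
  obtain ⟨g, hg⟩ := exists_ext1 x y f α hf
  exact ⟨g, hom_ext_charts fun V U h s => by rw [Φ_spec, hg U V h s, ddS_tw]; rfl⟩

theorem Φ_plus (z : Ext1 x y f (dual2 k k)) : Φ (z.map plus) = Φ (z.map pr₁) + Φ (z.map pr₂) :=
  hom_ext_charts fun V U h s => by
    show _ = X.presheaf.map (homOfLE h).op
      ((show Γ(X, f ⁻¹ᵁ V.1) from (Φ (z.map pr₁)).app V.1 (OmegaSh.dSect y V.1 s)) +
        (show Γ(X, f ⁻¹ᵁ V.1) from (Φ (z.map pr₂)).app V.1 (OmegaSh.dSect y V.1 s)))
    rw [map_add, Φ_spec, Φ_spec, Φ_spec, gS_map, gS_map, gS_map, ddS_plus]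

theorem Φ_scale (c : k) (g : Ext1 x y f (dual k k)) (V : Y.affineOpens) (s : Γ(Y, V.1)) :
    (show Γ(X, f ⁻¹ᵁ V.1) from (Φ (g.map (scale c))).app V.1 (OmegaSh.dSect y V.1 s)) =
      ThickAff3.str x (f ⁻¹ᵁ V.1) c * (show Γ(X, f ⁻¹ᵁ V.1) from (Φ g).app V.1 (OmegaSh.dSect y V.1 s)) :=
  section_ext fun U h => by
    rw [map_mul, Φ_spec, Φ_spec, gS_map, ddS_scale]
    congr 1
    exact (ThickAff3.res_str x h c).symm

section Sections

variable [X.Over (Spec (CommRingCat.of k))] (y' : Y ⟶ Art.specPt k) [QuasiSeparated y'] (f' : X ⟶ Y)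
  [DCoh.HasSheafHom ((Scheme.Modules.pullback f').obj (Omega.sheaf y'))]

/-- Sections of the sheaf of homomorphisms as morphisms out of differentials. -/
noncomputable def Qe : Coh.HH X ((DCoh.sheafHom ((Scheme.Modules.pullback f').obj (Omega.sheaf y'))).obj
    (Coh.structureModule X)) 0 ≃ (Omega.sheaf y' ⟶ fO f') :=
  (CurveCoh17.hh0 _).toEquiv.trans ((homOfSection ((Scheme.Modules.pullback f').obj (Omega.sheaf y'))).trans
    (homE (Scheme.Modules.pullbackPushforwardAdjunction f') (Iso.refl (Omega.sheaf y')) (Coh.structureModule X)))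

theorem Qe_apply (z : Coh.HH X ((DCoh.sheafHom ((Scheme.Modules.pullback f').obj (Omega.sheaf y'))).obj
    (Coh.structureModule X)) 0) :
    Qe y' f' z = homE (Scheme.Modules.pullbackPushforwardAdjunction f') (Iso.refl (Omega.sheaf y'))
      (Coh.structureModule X) (homOfSection _ (CurveCoh17.hh0 _ z)) := rfl

theorem Qe_add (z w : Coh.HH X ((DCoh.sheafHom ((Scheme.Modules.pullback f').obj (Omega.sheaf y'))).obj
    (Coh.structureModule X)) 0) : Qe y' f' (z + w) = Qe y' f' z + Qe y' f' w := by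
  rw [Qe_apply, Qe_apply, Qe_apply, map_add, homOfSection_add]
  exact homE_add _ (Scheme.Modules.pullbackPushforwardAdjunction f').right_adjoint_additive (Iso.refl _) _ _

theorem Qe_smul (c : k) (z : Coh.HH X ((DCoh.sheafHom ((Scheme.Modules.pullback f').obj (Omega.sheaf y'))).obj
    (Coh.structureModule X)) 0) (V : Y.Opens) (m : Γ(Omega.sheaf y', V)) :
    (show Γ(X, f' ⁻¹ᵁ V) from (Qe y' f' (c • z)).app V m) =
      ThickAff3.str (X ↘ Spec (CommRingCat.of k)) (f' ⁻¹ᵁ V) c *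
        (show Γ(X, f' ⁻¹ᵁ V) from (Qe y' f' z).app V m) := by
  let r : Γ(X, ⊤) := ThickAff3.str (X ↘ Spec (CommRingCat.of k)) ⊤ c
  have e1 : homOfSection ((Scheme.Modules.pullback f').obj (Omega.sheaf y')) (CurveCoh17.hh0 _ (c • z)) =
      homOfSection _ (CurveCoh17.hh0 _ z) ≫ scal r := by
    rw [← homOfSection_smul, show CurveCoh17.hh0 _ (c • z) = r • CurveCoh17.hh0 _ z by
      refine (CurveCoh17.hh0_smul _ z).trans ?_
      congr 1
      exact toGlobal_eq _ c]
  rw [Qe_apply, Qe_apply, e1]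
  refine (congrArg (fun φ => φ.app V m) (homE_comp (Scheme.Modules.pullbackPushforwardAdjunction f')
    (Iso.refl (Omega.sheaf y')) (homOfSection _ (CurveCoh17.hh0 _ z)) (scal r))).trans ?_
  refine (scal_app r _ ((homE (Scheme.Modules.pullbackPushforwardAdjunction f') (Iso.refl (Omega.sheaf y'))
    (Coh.structureModule X) (homOfSection _ (CurveCoh17.hh0 _ z))).app V m)).trans ?_
  refine congrArg (fun t : Γ(X, f' ⁻¹ᵁ V) => t * _) ?_
  exact ThickAff3.res_str _ le_top c

end Sections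

section Points

variable (x) (y) {M : Over (Art.specPt k)} (υ : Over.mk x ⊗ M ⟶ Over.mk y)
  (hM : ∀ (T : Over (Art.specPt k)) (φ : Over.mk x ⊗ T ⟶ Over.mk y), ∃! a : T ⟶ M, (Over.mk x ◁ a) ≫ υ = φ)
  (af : (Pt : Over (Art.specPt k)) ⟶ M)
  (haf : ((Over.mk x ◁ af) ≫ υ).left = pullback.fst x (𝟙 (Art.specPt k)) ≫ f)

omit [QuasiSeparated y] in
theorem whiskerLeft_eq {T T' : Over (Art.specPt k)} (a : T' ⟶ T) :
    (Over.mk x ◁ a).left = PicF.XTmap x a := by
  rw [Over.whiskerLeft_left]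
  refine pullback.hom_ext ?_ ?_
  · exact ((pullback.lift_fst _ _ _).trans (Category.comp_id _)).trans (HilbBC25.XTmap_fst x a).symm
  · exact (pullback.lift_snd _ _ _).trans (HilbBC25.XTmap_snd x a).symm

include haf in
omit [QuasiSeparated y] in
theorem incl_left {A : Art k k} (φ : TA A ⟶ M) (hφ : resHom A ≫ φ = af) :
    XAincl x A ≫ ((Over.mk x ◁ φ) ≫ υ).left = f := by
  have e : XAincl x A ≫ ((Over.mk x ◁ φ) ≫ υ).left = jPt x ≫ ((Over.mk x ◁ af) ≫ υ).left := by
    rw [XAincl_eq, Category.assoc]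
    refine congrArg (jPt x ≫ ·) ?_
    rw [Over.comp_left, Over.comp_left, whiskerLeft_eq, whiskerLeft_eq, ← hφ, HilbBC25.XTmap_comp, Category.assoc]
  rw [e, haf]
  exact (Category.assoc _ _ _).symm.trans ((congrArg (· ≫ f) (jPt_fst x)).trans (Category.id_comp f))

/-- The extension of a point. -/
noncomputable def toExt1 {A : Art k k} (φ : PtsAt af A) : Ext1 x y f A :=
  ⟨((Over.mk x ◁ φ.1) ≫ υ).left, incl_left x y υ af haf φ.1 φ.2, Over.w ((Over.mk x ◁ φ.1) ≫ υ)⟩

omit [QuasiSeparated y] in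
theorem toExt1_map {A B : Art k k} (g : A ⟶ B) (φ : PtsAt af A) :
    toExt1 x y υ af haf (φ.map af g) = (toExt1 x y υ af haf φ).map g := by
  refine Subtype.ext ?_
  show ((Over.mk x ◁ (mapHom g ≫ φ.1)) ≫ υ).left = XAmap x g ≫ ((Over.mk x ◁ φ.1) ≫ υ).left
  rw [Over.comp_left, Over.comp_left, whiskerLeft_eq, whiskerLeft_eq, HilbBC25.XTmap_comp, Category.assoc,
    XTmap_mapHom]

include hM in
omit [QuasiSeparated y] in
theorem toExt1_bijective (A : Art k k) :
    Function.Bijective (toExt1 x y υ af haf : PtsAt af A → Ext1 x y f A) := by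
  refine ⟨fun φ φ' e => Subtype.ext ?_, fun g => ?_⟩
  · exact (hM _ ((Over.mk x ◁ φ.1) ≫ υ)).unique rfl (Over.OverMorphism.ext (congrArg Subtype.val e).symm)
  · obtain ⟨a, ha, -⟩ := hM (TA A) (Over.homMk g.1 g.2.2)
    have ha' : ((Over.mk x ◁ a) ≫ υ).left = g.1 := congrArg (fun z => Over.Hom.left z) ha
    refine ⟨⟨a, (hM Pt ((Over.mk x ◁ af) ≫ υ)).unique ?_ rfl⟩, Subtype.ext ha'⟩
    refine Over.OverMorphism.ext ?_
    rw [haf]
    have e1 : PicF.XTmap x (resHom A) = pullback.fst x (𝟙 (Art.specPt k)) ≫ XAincl x A := by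
      rw [XAincl_eq, ← Category.assoc]
      exact ((congrArg (· ≫ PicF.XTmap x (resHom A)) (fst_jPt x)).trans (Category.id_comp _)).symm
    rw [Over.comp_left, whiskerLeft_eq, HilbBC25.XTmap_comp, Category.assoc, e1, Category.assoc, ← whiskerLeft_eq x a,
      ← Over.comp_left, ha', g.2.1]

end Points

end Groth.Agent.HomTan3
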